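import Groth.Agent.GorFib.Basic
import Groth.Agent.IsoNatLib.SmoothCrit
import Groth.Agent.Hensel.Henselization
import Groth.Agent.WEtLib.Basic
import Groth.Agent.S0538
import Groth.Agent.S0539
import Groth.Agent.S0540
import Groth.Agent.S12237
import Groth.Agent.S0736

/-!
# Flatness and Gorenstein fibres through strict henselizations
-/

set_option autoImplicit false
set_option backward.isDefEq.respectTransparency false
universe u

open IsLocalRing

namespace Groth.Agent.GorFib

/-- A quotient of a strict henselization is a strict henselization of the quotient. -/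
theorem isStrictHenselization_quotient (B R : Type u) [CommRing B] [IsLocalRing B] [CommRing R] [IsLocalRing R]
    [Algebra B R] [IsLocalHom (algebraMap B R)] [hR : Hensel.IsStrictHenselization B R] (J : Ideal B)
    [IsLocalRing (B ⧸ J)] [IsLocalRing (R ⧸ J.map (algebraMap B R))]
    [IsLocalHom (algebraMap (B ⧸ J) (R ⧸ J.map (algebraMap B R)))] :
    Hensel.IsStrictHenselization (B ⧸ J) (R ⧸ J.map (algebraMap B R)) := by
  let πB := Ideal.Quotient.mk J
  let πR := Ideal.Quotient.mk (J.map (algebraMap B R))
  haveI : IsLocalHom πB := .of_surjective _ Ideal.Quotient.mk_surjective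
  haveI : IsLocalHom πR := .of_surjective _ Ideal.Quotient.mk_surjective
  haveI := hR.henselian
  have bij : ∀ {P Q : Type u} [CommRing P] [IsLocalRing P] [CommRing Q] [IsLocalRing Q] (π : P →+* Q)
      [IsLocalHom π], Function.Surjective π → Function.Bijective (ResidueField.map π) := by
    intro P Q _ _ _ _ π _ hπ
    refine ⟨RingHom.injective _, fun x => ?_⟩
    obtain ⟨b, rfl⟩ := residue_surjective x
    obtain ⟨a, rfl⟩ := hπ b
    exact ⟨residue P a, rfl⟩
  let eB := RingEquiv.ofBijective _ (bij πB Ideal.Quotient.mk_surjective)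
  let eR := RingEquiv.ofBijective _ (bij πR Ideal.Quotient.mk_surjective)
  refine ⟨IsoNatLib.henselianLocalRing_quotient _ (Ideal.Quotient.nontrivial_iff.1 inferInstance), ⟨?_, ?_⟩, ?_⟩
  · haveI := hR.isSepClosure.sep_closed
    exact Hensel.isSepClosed_of_ringEquiv eR
  · haveI := hR.isSepClosure.separable
    refine Algebra.IsSeparable.of_equiv_equiv eB eR ?_
    ext x
    obtain ⟨x, rfl⟩ := residue_surjective x
    rfl
  · intro T _ _ f _ τ hτ
    have hτ' : (τ.comp (ResidueField.map πR)).comp (ResidueField.map (algebraMap B R)) =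
        ResidueField.map (f.comp πB) := by
      ext x
      obtain ⟨x, rfl⟩ := residue_surjective x
      exact congr($hτ (ResidueField.map πB (residue B x)))
    obtain ⟨g, ⟨hg1, hg2⟩, hg⟩ := hR.universal T (f.comp πB) (τ.comp (ResidueField.map πR)) hτ'
    have hker : ∀ a ∈ J.map (algebraMap B R), g a = 0 := fun a ha =>
      (Ideal.map_le_iff_le_comap (K := RingHom.ker g)).2 (fun b hb => RingHom.mem_ker.2
        ((congr($hg1 b)).trans (by
          show f (πB b) = 0
          rw [show πB b = 0 from Ideal.Quotient.eq_zero_iff_mem.2 hb, map_zero]))) ha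
    refine ⟨Ideal.Quotient.lift _ g hker, ⟨?_, ?_⟩, ?_⟩
    · ext b
      exact congr($hg1 b)
    · intro x
      obtain ⟨x, rfl⟩ := Ideal.Quotient.mk_surjective x
      exact hg2 x
    · rintro g' ⟨hg'1, hg'2⟩
      refine Ideal.Quotient.ringHom_ext (hg _ ⟨?_, fun x => hg'2 (πR x)⟩)
      ext b
      exact congr($hg'1 (πB b))

section

variable {A B R' R : Type u} [CommRing A] [CommRing B] [CommRing R'] [CommRing R] [IsLocalRing A] [IsLocalRing B]
  [IsLocalRing R'] [IsLocalRing R] [Algebra A R'] [IsLocalHom (algebraMap A R')] [Hensel.IsStrictHenselization A R']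
  [Algebra B R] [IsLocalHom (algebraMap B R)] [Hensel.IsStrictHenselization B R]
  (ψ : A →+* B) (φ : R' →+* R) (h : φ.comp (algebraMap A R') = (algebraMap B R).comp ψ)

include h

/-- Flatness of a local homomorphism is seen on strict henselizations. -/
theorem sh_flat_iff : ψ.Flat ↔ φ.Flat := by
  letI : Algebra A B := ψ.toAlgebra
  letI : Algebra R' R := φ.toAlgebra
  letI : Algebra A R := ((algebraMap B R).comp ψ).toAlgebra
  haveI : IsScalarTower A B R := .of_algebraMap_eq fun _ => rfl
  haveI : IsScalarTower A R' R := .of_algebraMap_eq fun a => (congr($h a)).symm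
  haveI := S0539.result A R'
  haveI := S0539.result B R
  haveI : Algebra.WeaklyEtale A R' := S0736.result A R' (S12237.result A R')
  constructor
  · intro hψ
    haveI : Module.Flat A B := hψ
    haveI : Module.Flat A R := Module.Flat.trans A B R
    exact WEtLib.flat_of_flat (A := A) (B := R') R
  · intro hφ
    haveI : Module.Flat R' R := hφ
    haveI : Module.Flat A R := Module.Flat.trans A R' R
    have h1 : (algebraMap B R).Flat := RingHom.flat_algebraMap_iff.2 inferInstance
    have h2 : ((algebraMap B R).comp ψ).Flat := RingHom.flat_algebraMap_iff.2 (inferInstanceAs (Module.Flat A R))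
    exact Triage.CMMor.flat_of_comp ψ (algebraMap B R) h1 h2

/-- The closed fibre of the map of strict henselizations is Gorenstein exactly when the closed fibre is. -/
theorem sh_gor_fibre_iff [IsLocalHom ψ] [IsNoetherianRing (B ⧸ (maximalIdeal A).map ψ)] :
    LocCoh.IsGorensteinLocalRing (R ⧸ (maximalIdeal R').map φ) ↔
      LocCoh.IsGorensteinLocalRing (B ⧸ (maximalIdeal A).map ψ) := by
  let J := (maximalIdeal A).map ψ
  have hm : (maximalIdeal R').map φ = J.map (algebraMap B R) := by
    rw [← S0538.result A R', Ideal.map_map, h, ← Ideal.map_map]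
  rw [gor_congr (Ideal.quotEquivOfEq hm)]
  show LocCoh.IsGorensteinLocalRing (R ⧸ J.map (algebraMap B R)) ↔ LocCoh.IsGorensteinLocalRing (B ⧸ J)
  have hJ : J ≤ maximalIdeal B := map_maximalIdeal_le ψ
  have hJR : J.map (algebraMap B R) ≤ maximalIdeal R :=
    (Ideal.map_mono hJ).trans (map_maximalIdeal_le _)
  haveI : Nontrivial (B ⧸ J) :=
    Ideal.Quotient.nontrivial_iff.2 fun e => (maximalIdeal.isMaximal B).ne_top (top_le_iff.1 (e ▸ hJ))
  haveI : Nontrivial (R ⧸ J.map (algebraMap B R)) :=
    Ideal.Quotient.nontrivial_iff.2 fun e => (maximalIdeal.isMaximal R).ne_top (top_le_iff.1 (e ▸ hJR))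
  haveI : IsLocalRing (B ⧸ J) := .of_surjective' (Ideal.Quotient.mk _) Ideal.Quotient.mk_surjective
  haveI : IsLocalRing (R ⧸ J.map (algebraMap B R)) :=
    .of_surjective' (Ideal.Quotient.mk _) Ideal.Quotient.mk_surjective
  haveI : IsLocalHom (Ideal.Quotient.mk (J.map (algebraMap B R))) :=
    .of_surjective _ Ideal.Quotient.mk_surjective
  haveI : IsLocalHom (algebraMap (B ⧸ J) (R ⧸ J.map (algebraMap B R))) := by
    constructor
    intro b hb
    obtain ⟨b, rfl⟩ := Ideal.Quotient.mk_surjective b
    have hb' : IsUnit (Ideal.Quotient.mk (J.map (algebraMap B R)) (algebraMap B R b)) := hb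
    exact (isUnit_of_map_unit (algebraMap B R) b (isUnit_of_map_unit _ _ hb')).map _
  haveI := isStrictHenselization_quotient B R J
  haveI : IsNoetherianRing (B ⧸ J) := ‹IsNoetherianRing (B ⧸ (maximalIdeal A).map ψ)›
  haveI : IsNoetherianRing (R ⧸ J.map (algebraMap B R)) := (S0540.result (B ⧸ J) _).1 inferInstance
  haveI := S0539.result (B ⧸ J) (R ⧸ J.map (algebraMap B R))
  rw [gor_iff (B ⧸ J) (R ⧸ J.map (algebraMap B R))]
  refine ⟨And.left, fun hB => ⟨hB, gor_of_isField ?_⟩⟩
  rw [S0538.result (B ⧸ J) (R ⧸ J.map (algebraMap B R))]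
  exact (Ideal.Quotient.maximal_ideal_iff_isField_quotient _).1 inferInstance

end

/-- A strict henselization of a Noetherian local ring is Gorenstein exactly when the ring is. -/
theorem sh_gor_iff (A R : Type u) [CommRing A] [CommRing R] [IsLocalRing A] [IsLocalRing R] [IsNoetherianRing A]
    [Algebra A R] [IsLocalHom (algebraMap A R)] [Hensel.IsStrictHenselization A R] :
    LocCoh.IsGorensteinLocalRing R ↔ LocCoh.IsGorensteinLocalRing A := by
  haveI : IsNoetherianRing R := (S0540.result A R).1 inferInstance
  haveI := S0539.result A R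
  rw [gor_iff A R]
  refine ⟨And.left, fun hA => ⟨hA, gor_of_isField ?_⟩⟩
  rw [S0538.result A R]
  exact (Ideal.Quotient.maximal_ideal_iff_isField_quotient _).1 inferInstance

end Groth.Agent.GorFib
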