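import Groth.Agent.Triage.CMBC
import Groth.Agent.LC.GorRingRows
import Groth.Prelude.Def_Dual3

/-!
# Gorenstein morphisms in terms of local rings
-/

set_option autoImplicit false
set_option backward.isDefEq.respectTransparency false
universe u

open AlgebraicGeometry CategoryTheory CategoryTheory.Limits IsLocalRing TensorProduct

namespace Groth.Agent.GorFib

open Groth.Agent Groth.Agent.Triage.CMMor

theorem gor_iff (A B : Type u) [CommRing A] [CommRing B] [IsNoetherianRing A] [IsNoetherianRing B]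
    [IsLocalRing A] [IsLocalRing B] [Algebra A B] [IsLocalHom (algebraMap A B)] [Module.Flat A B] :
    LocCoh.IsGorensteinLocalRing B ↔ LocCoh.IsGorensteinLocalRing A ∧
      LocCoh.IsGorensteinLocalRing (B ⧸ (maximalIdeal A).map (algebraMap A B)) :=
  LC.gorenstein_flat_local_iff A B

theorem gor_of_equiv {R S : Type u} [CommRing R] [CommRing S] (e : R ≃+* S)
    (h : LocCoh.IsGorensteinLocalRing R) : LocCoh.IsGorensteinLocalRing S := by
  haveI := h
  haveI : IsLocalRing S := e.isLocalRing
  haveI : IsNoetherianRing S := isNoetherianRing_of_ringEquiv R e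
  exact LC.gorenstein_of_ringEquiv e

theorem gor_congr {R S : Type u} [CommRing R] [CommRing S] (e : R ≃+* S) :
    LocCoh.IsGorensteinLocalRing R ↔ LocCoh.IsGorensteinLocalRing S :=
  ⟨gor_of_equiv e, gor_of_equiv e.symm⟩

theorem gor_of_isField {R : Type u} [CommRing R] (h : IsField R) : LocCoh.IsGorensteinLocalRing R := by
  letI := h.toField
  exact LC.gorenstein_of_isRegularLocalRing

variable {X S : Scheme.{u}}

theorem gorAt_iff (f : X ⟶ S) (x : X) :
    Dual3.IsGorensteinAt f x ↔ (f.stalkMap x).hom.Flat ∧ LocCoh.IsGorensteinLocalRing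
      (↑(X.presheaf.stalk x) ⧸ (maximalIdeal (S.presheaf.stalk (f x))).map (f.stalkMap x).hom) :=
  and_congr_right fun _ => (gor_congr (exists_equiv_fibre_stalk f x).some).symm

theorem gorAt_iff_sm (f : X ⟶ S) (x : X) (s : S) (hs : f x = s) :
    Dual3.IsGorensteinAt f x ↔ (FibFlat.sm f x s hs).Flat ∧ LocCoh.IsGorensteinLocalRing
      (↑(X.presheaf.stalk x) ⧸ (maximalIdeal (S.presheaf.stalk s)).map (FibFlat.sm f x s hs)) := by
  subst hs
  rw [gorAt_iff, FibFlat.sm_self]

/-- The fibre rings along a composite of local homomorphisms `A → B → C`, with `C` flat over `B`. -/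
theorem fibre_comp {A B C : Type u} [CommRing A] [CommRing B] [CommRing C] [IsLocalRing A] [IsLocalRing B]
    [IsLocalRing C] (ψ : A →+* B) (φ : B →+* C) [IsLocalHom ψ] [IsLocalHom φ] (hφ : φ.Flat)
    [IsNoetherianRing (B ⧸ (maximalIdeal A).map ψ)] [IsNoetherianRing (C ⧸ (maximalIdeal A).map (φ.comp ψ))] :
    LocCoh.IsGorensteinLocalRing (C ⧸ (maximalIdeal A).map (φ.comp ψ)) ↔
      LocCoh.IsGorensteinLocalRing (B ⧸ (maximalIdeal A).map ψ) ∧
        LocCoh.IsGorensteinLocalRing (C ⧸ (maximalIdeal B).map φ) := by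
  let I := (maximalIdeal A).map ψ
  have hIm : I ≤ maximalIdeal B := map_maximalIdeal_le ψ
  have hJ : (maximalIdeal A).map (φ.comp ψ) = I.map φ := (Ideal.map_map ψ φ).symm
  haveI : IsNoetherianRing (C ⧸ I.map φ) :=
    isNoetherianRing_of_ringEquiv (C ⧸ (maximalIdeal A).map (φ.comp ψ)) (Ideal.quotEquivOfEq hJ)
  rw [gor_congr (Ideal.quotEquivOfEq hJ)]
  haveI : Nontrivial (B ⧸ I) :=
    Ideal.Quotient.nontrivial_iff.2 fun h => (maximalIdeal.isMaximal B).ne_top (top_le_iff.1 (h ▸ hIm))
  haveI : Nontrivial (C ⧸ I.map φ) :=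
    Ideal.Quotient.nontrivial_iff.2 fun h => (maximalIdeal.isMaximal C).ne_top
      (top_le_iff.1 (h ▸ (Ideal.map_mono hIm).trans (map_maximalIdeal_le φ)))
  haveI : IsLocalRing (B ⧸ I) := .of_surjective' (Ideal.Quotient.mk _) Ideal.Quotient.mk_surjective
  haveI : IsLocalRing (C ⧸ I.map φ) := .of_surjective' (Ideal.Quotient.mk _) Ideal.Quotient.mk_surjective
  letI : Algebra B C := φ.toAlgebra
  haveI : Module.Flat B C := hφ
  haveI : Module.Flat (B ⧸ I) (C ⧸ I.map (algebraMap B C)) :=
    Module.Flat.of_linearEquiv (((TensorProduct.quotTensorEquivQuotSMul C I).trans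
      ((Submodule.quotEquivOfEq _ _ (Ideal.smul_top_eq_map I)).trans
        (Submodule.Quotient.restrictScalarsEquiv B _))).extendScalarsOfSurjective
          Ideal.Quotient.mk_surjective).symm
  haveI : Nontrivial (C ⧸ I.map (algebraMap B C)) := ‹Nontrivial (C ⧸ I.map φ)›
  haveI : IsLocalRing (C ⧸ I.map (algebraMap B C)) := ‹IsLocalRing (C ⧸ I.map φ)›
  haveI : IsNoetherianRing (C ⧸ I.map (algebraMap B C)) := ‹IsNoetherianRing (C ⧸ I.map φ)›
  haveI : IsLocalHom (algebraMap (B ⧸ I) (C ⧸ I.map (algebraMap B C))) := by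
    constructor
    intro b hb
    obtain ⟨b, rfl⟩ := Ideal.Quotient.mk_surjective b
    have hb' : IsUnit (Ideal.Quotient.mk (I.map φ) (φ b)) := hb
    haveI : IsLocalHom (Ideal.Quotient.mk (I.map φ)) := IsLocalHom.of_surjective _ Ideal.Quotient.mk_surjective
    exact (isUnit_of_map_unit φ b (isUnit_of_map_unit _ _ hb')).map _
  show LocCoh.IsGorensteinLocalRing (C ⧸ I.map (algebraMap B C)) ↔
    LocCoh.IsGorensteinLocalRing (B ⧸ I) ∧ LocCoh.IsGorensteinLocalRing (C ⧸ (maximalIdeal B).map φ)
  rw [gor_iff (B ⧸ I) (C ⧸ I.map (algebraMap B C))]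
  refine and_congr_right fun _ => ?_
  refine gor_congr ?_
  have hmB : maximalIdeal (B ⧸ I) = (maximalIdeal B).map (Ideal.Quotient.mk I) :=
    (IsLocalRing.map_maximalIdeal_of_surjective _ Ideal.Quotient.mk_surjective).symm
  refine (Ideal.quotEquivOfEq (show (maximalIdeal (B ⧸ I)).map (algebraMap (B ⧸ I) (C ⧸ I.map (algebraMap B C))) =
    ((maximalIdeal B).map φ).map (Ideal.Quotient.mk (I.map φ)) from ?_)).trans
    (DoubleQuot.quotQuotEquivQuotOfLE (Ideal.map_mono hIm))
  rw [hmB]
  exact (Ideal.map_map (Ideal.Quotient.mk I) (algebraMap (B ⧸ I) (C ⧸ I.map (algebraMap B C)))).trans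
    (Ideal.map_map φ (Ideal.Quotient.mk (I.map φ))).symm

variable {X' T : Scheme.{u}} {f : X ⟶ S} {f' : X' ⟶ T} {g' : X' ⟶ X} {g : T ⟶ S}

/-- The local rings of a fibre of the base change by a finitely generated field extension. -/
theorem gor_stalk_of_field_pullback {k K L : Type u} [Field k] [Field K] [Field L] [Algebra k K]
    [Algebra k L] [Algebra.EssFiniteType k L] {G : Scheme.{u}} {a : G ⟶ Spec (CommRingCat.of K)}
    {b : G ⟶ Spec (CommRingCat.of L)}
    (h : IsPullback a b (Spec.map (CommRingCat.ofHom (algebraMap k K))) (Spec.map (CommRingCat.ofHom (algebraMap k L))))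
    (w : G) : LocCoh.IsGorensteinLocalRing (G.presheaf.stalk w) := by
  haveI : LocCoh.IsGorensteinRing K := LC.gorensteinRing_of_isRegularRing K
  haveI : LocCoh.IsGorensteinRing (K ⊗[k] L) :=
    LC.gorensteinRing_of_ringEquiv (Algebra.TensorProduct.comm k L K).toRingEquiv
      (LC.gorensteinRing_field_tensor k K L)
  let e : G ⟶ Spec (CommRingCat.of (K ⊗[k] L)) := (h.isoPullback ≪≫ pullbackSpecIso k K L).hom
  let v := e w
  refine gor_of_equiv ((asIso (e.stalkMap w)).commRingCatIsoToRingEquiv) ?_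
  exact gor_of_equiv (Spec.stalkIso (CommRingCat.of (K ⊗[k] L)) v).symm.commRingCatIsoToRingEquiv
    (LocCoh.IsGorensteinRing.isGorensteinLocalRing_localization v.asIdeal)

/-- Gorensteinness of the local rings of the fibres along a base change. -/
theorem gor_fibre_iff (hc : IsPullback g' f' f g) [LocallyOfFiniteType g] (x' : X')
    (hN : IsLocallyNoetherian (f.fiber (g (f' x')))) :
    LocCoh.IsGorensteinLocalRing
        (↑(X'.presheaf.stalk x') ⧸ (maximalIdeal (T.presheaf.stalk (f' x'))).map (FibFlat.sm f' x' (f' x') rfl)) ↔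
      LocCoh.IsGorensteinLocalRing
        (↑(X.presheaf.stalk (g' x')) ⧸
          (maximalIdeal (S.presheaf.stalk (f (g' x')))).map (FibFlat.sm f (g' x') (f (g' x')) rfl)) := by
  have hy : f (g' x') = g (f' x') := by rw [← Scheme.Hom.comp_apply, hc.w, Scheme.Hom.comp_apply]
  have hI : LocCoh.IsGorensteinLocalRing
        (↑(X.presheaf.stalk (g' x')) ⧸
          (maximalIdeal (S.presheaf.stalk (f (g' x')))).map (FibFlat.sm f (g' x') (f (g' x')) rfl)) ↔
      LocCoh.IsGorensteinLocalRing
        (↑(X.presheaf.stalk (g' x')) ⧸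
          (maximalIdeal (S.presheaf.stalk (g (f' x')))).map (FibFlat.sm f (g' x') (g (f' x')) hy)) :=
    gor_congr (Ideal.quotEquivOfEq (FibFlat.map_max_sm f (g' x') _ hy))
  rw [hI]
  obtain ⟨e, he, hι⟩ := ConsPropLib.exists_fibre_pullback hc (f' x')
  let z' := f'.asFiber x'
  have hz' : f'.fiberι (f' x') z' = x' := f'.fiberι_asFiber x'
  have hz : f.fiberι (g (f' x')) (e z') = g' x' := by
    rw [← Scheme.Hom.comp_apply, hι, Scheme.Hom.comp_apply, hz']
  obtain ⟨E'⟩ := Triage.CMMor.exists_equiv_fibre_stalk_aux f' x' (f' x') rfl z' hz'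
  obtain ⟨E⟩ := Triage.CMMor.exists_equiv_fibre_stalk_aux f (g' x') (g (f' x')) hy (e z') hz
  haveI := Triage.CMBC.isNoetherianRing_fibre_stalk_of_isPullback hc x' hN
  haveI : IsNoetherianRing ((f'.fiber (f' x')).presheaf.stalk z') := isNoetherianRing_of_ringEquiv _ E'
  rw [gor_congr E', gor_congr E]
  haveI : Flat e := by
    have h1 : Flat (Spec.map (g.residueFieldMap (f' x'))) := by
      rw [Flat.SpecMap_iff]
      let := (g.residueFieldMap (f' x')).hom.toAlgebra
      exact RingHom.flat_algebraMap_iff.2 inferInstance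
    exact MorphismProperty.of_isPullback (P := (@Flat : MorphismProperty Scheme.{u})) he.flip h1
  letI : Algebra ((f.fiber (g (f' x'))).presheaf.stalk (e z')) ((f'.fiber (f' x')).presheaf.stalk z') :=
    (e.stalkMap z').hom.toAlgebra
  haveI : IsLocalHom (algebraMap ((f.fiber (g (f' x'))).presheaf.stalk (e z')) ((f'.fiber (f' x')).presheaf.stalk z')) :=
    inferInstanceAs (IsLocalHom (e.stalkMap z').hom)
  haveI : Module.Flat ((f.fiber (g (f' x'))).presheaf.stalk (e z')) ((f'.fiber (f' x')).presheaf.stalk z') :=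
    Flat.stalkMap e z'
  rw [gor_iff ((f.fiber (g (f' x'))).presheaf.stalk (e z')) ((f'.fiber (f' x')).presheaf.stalk z')]
  refine ⟨And.left, fun h => ⟨h, ?_⟩⟩
  refine (gor_congr (Triage.CMMor.exists_equiv_fibre_stalk e z').some).2 ?_
  -- the fibre of `e` is the base change of a field extension
  let F := f.fiber (g (f' x'))
  let k := S.residueField (g (f' x'))
  obtain ⟨φ, hφ⟩ := Spec.map_surjective (F.fromSpecResidueField (e z') ≫ f.fiberToSpecResidueField (g (f' x')))
  letI : Field k := inferInstance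
  letI : Algebra k (F.residueField (e z')) := φ.hom.toAlgebra
  letI : Algebra k (T.residueField (f' x')) := (g.residueFieldMap (f' x')).hom.toAlgebra
  haveI : Algebra.EssFiniteType k (T.residueField (f' x')) := Triage.CMBC.essFiniteType_residueFieldMap g (f' x')
  refine gor_stalk_of_field_pullback (k := k) (K := F.residueField (e z')) (L := T.residueField (f' x'))
    (a := pullback.snd e (F.fromSpecResidueField (e z')))
    (b := pullback.fst e (F.fromSpecResidueField (e z')) ≫ f'.fiberToSpecResidueField (f' x')) ?_ _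
  show IsPullback _ _ (Spec.map φ) (Spec.map (g.residueFieldMap (f' x')))
  rw [hφ]
  exact (IsPullback.of_hasPullback e (F.fromSpecResidueField (e z'))).flip.paste_vert he

end Groth.Agent.GorFib
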