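import Groth.Agent.GorFib.Mor
import Groth.Agent.MorLib.WeightFlat
import Groth.Agent.AlgSpLib.FlatAt

/-!
# Gorenstein morphisms and etale morphisms
-/

set_option autoImplicit false
set_option backward.isDefEq.respectTransparency false
universe u

open AlgebraicGeometry CategoryTheory CategoryTheory.Limits IsLocalRing

namespace Groth.Agent.GorFib

open Groth.Agent

variable {X Y Z : Scheme.{u}}

theorem gorAt_of_etale (e : X ⟶ Y) [Etale e] (x : X) : Dual3.IsGorensteinAt e x := by
  refine (gorAt_iff e x).2 ⟨Flat.stalkMap e x, gor_of_isField ?_⟩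
  rw [show (maximalIdeal (Y.presheaf.stalk (e x))).map (e.stalkMap x).hom = maximalIdeal _ from
    MorLib.WT.map_maximalIdeal_stalkMap e x]
  exact (Ideal.Quotient.maximal_ideal_iff_isField_quotient _).1 inferInstance

/-- Being Gorenstein at a point is not changed by an etale morphism on the source. -/
theorem gor_left_iff (r : X ⟶ Y) [Etale r] (h : Y ⟶ Z) (x : X)
    (hN : IsLocallyNoetherian (h.fiber (h (r x)))) :
    Dual3.IsGorensteinAt (r ≫ h) x ↔ Dual3.IsGorensteinAt h (r x) := by
  refine ⟨fun H => (of_comp r h x H (Flat.stalkMap r x)).2, fun H => comp r h x ?_ (gorAt_of_etale r x) H⟩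
  exact Triage.CMBC.isLocallyNoetherian_fibre_comp r h _

/-- Flatness at a point is not changed by an etale morphism on the target. -/
theorem flat_right_iff (k : X ⟶ Y) (e : Y ⟶ Z) [Etale e] (x : X) :
    ((k ≫ e).stalkMap x).hom.Flat ↔ (k.stalkMap x).hom.Flat := by
  refine ⟨fun hf => ?_, fun hk => by rw [Scheme.Hom.stalkMap_comp]; exact (Flat.stalkMap e (k x)).comp hk⟩
  let γ : X ⟶ pullback (k ≫ e) e := pullback.lift (𝟙 X) k (Category.id_comp _)
  have hγ : IsOpenImmersion γ := by
    have h1 : Etale (γ ≫ pullback.fst (k ≫ e) e) := by rw [pullback.lift_fst]; infer_instance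
    have : Etale γ := AlgSpLib.IsEtLocal.cancel_right (P := @Etale) γ (pullback.fst (k ≫ e) e) h1
    have : IsSplitMono γ := IsSplitMono.mk' ⟨pullback.fst (k ≫ e) e, pullback.lift_fst _ _ _⟩
    exact IsOpenImmersion.of_flat_of_mono γ
  have h1 : ((pullback.snd (k ≫ e) e).stalkMap (γ x)).hom.Flat := by
    refine Triage.CMBC.flat_stalk_of_isPullback (IsPullback.of_hasPullback (k ≫ e) e) (γ x) ?_
    have hp : pullback.fst (k ≫ e) e (γ x) = x := by
      rw [← Scheme.Hom.comp_apply, pullback.lift_fst]; rfl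
    have key : ∀ x₀ : X, x₀ = x → ((k ≫ e).stalkMap x₀).hom.Flat := fun x₀ hx₀ => by subst hx₀; exact hf
    exact key _ hp
  have h2 := (FibFlat.flat_stalk_open_comp γ (pullback.snd (k ≫ e) e) x).2 h1
  rwa [pullback.lift_snd] at h2

/-- Being Gorenstein at a point is not changed by an etale morphism on the target. -/
theorem gor_right_iff (k : X ⟶ Y) (e : Y ⟶ Z) [Etale e] (x : X)
    (hN : IsLocallyNoetherian ((k ≫ e).fiber (e (k x)))) :
    Dual3.IsGorensteinAt (k ≫ e) x ↔ Dual3.IsGorensteinAt k x :=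
  ⟨fun H => (of_comp k e x H ((flat_right_iff k e x).1 ((gorAt_iff _ x).1 H).1)).1,
    fun H => comp k e x hN H (gorAt_of_etale e _)⟩

end Groth.Agent.GorFib
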