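import Groth.Agent.GorFib.Basic

/-!
# Composition and base change of Gorenstein morphisms
-/

set_option autoImplicit false
set_option backward.isDefEq.respectTransparency false
universe u

open AlgebraicGeometry CategoryTheory IsLocalRing

namespace Groth.Agent.GorFib

open Groth.Agent

variable {X Y Z : Scheme.{u}}

theorem comp (f : X ⟶ Y) (g : Y ⟶ Z) (x : X) (hN : IsLocallyNoetherian ((f ≫ g).fiber (g (f x))))
    (hf : Dual3.IsGorensteinAt f x) (hg : Dual3.IsGorensteinAt g (f x)) :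
    Dual3.IsGorensteinAt (f ≫ g) x := by
  rw [gorAt_iff_sm f x (f x) rfl] at hf
  rw [gorAt_iff_sm g (f x) (g (f x)) rfl] at hg
  have hs : (f ≫ g) x = g (f x) := Scheme.Hom.comp_apply f g x
  haveI hNC := Triage.CMMor.isNoetherianRing_fibre_stalk_sm (f ≫ g) x (g (f x)) hs hN
  rw [gorAt_iff_sm (f ≫ g) x (g (f x)) hs]
  rw [FibFlat.sm_comp f g x (f x) (g (f x)) rfl rfl] at hNC ⊢
  haveI := hg.2
  exact ⟨hg.1.comp hf.1, (fibre_comp _ _ hf.1).2 ⟨hg.2, hf.2⟩⟩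

theorem of_comp (f : X ⟶ Y) (g : Y ⟶ Z) (x : X) (h : Dual3.IsGorensteinAt (f ≫ g) x)
    (hfl : (f.stalkMap x).hom.Flat) : Dual3.IsGorensteinAt f x ∧ Dual3.IsGorensteinAt g (f x) := by
  have hs : (f ≫ g) x = g (f x) := Scheme.Hom.comp_apply f g x
  rw [gorAt_iff_sm (f ≫ g) x (g (f x)) hs, FibFlat.sm_comp f g x (f x) (g (f x)) rfl rfl] at h
  haveI := h.2
  have hfl' : (FibFlat.sm f x (f x) rfl).Flat := (FibFlat.sm_flat_iff f x (f x) rfl).2 hfl
  haveI : IsNoetherianRing (↑(X.presheaf.stalk x) ⧸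
      ((maximalIdeal (Z.presheaf.stalk (g (f x)))).map (FibFlat.sm g (f x) (g (f x)) rfl)).map
        (FibFlat.sm f x (f x) rfl)) :=
    isNoetherianRing_of_ringEquiv _ (Ideal.quotEquivOfEq (Ideal.map_map _ _).symm)
  haveI := Triage.CMMor.isNoetherian_fibre_of_flat (FibFlat.sm f x (f x) rfl) hfl'
    ((maximalIdeal (Z.presheaf.stalk (g (f x)))).map (FibFlat.sm g (f x) (g (f x)) rfl))
  obtain ⟨hB, hC⟩ := (fibre_comp _ _ hfl').1 h.2
  exact ⟨(gorAt_iff_sm f x (f x) rfl).2 ⟨hfl', hC⟩,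
    (gorAt_iff_sm g (f x) (g (f x)) rfl).2 ⟨Triage.CMMor.flat_of_comp _ _ hfl' h.1, hB⟩⟩

variable {X' Y' : Scheme.{u}} {f : X ⟶ Y} {g : Y' ⟶ Y} {f' : X' ⟶ Y'} {g' : X' ⟶ X}

theorem base_change (hc : IsPullback g' f' f g) [LocallyOfFiniteType g] (x' : X')
    (hN : IsLocallyNoetherian (f.fiber (g (f' x')))) (h : Dual3.IsGorensteinAt f (g' x')) :
    Dual3.IsGorensteinAt f' x' := by
  rw [gorAt_iff_sm f (g' x') (f (g' x')) rfl] at h
  rw [gorAt_iff_sm f' x' (f' x') rfl]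
  exact ⟨(FibFlat.sm_flat_iff f' x' (f' x') rfl).2
    (Triage.CMBC.flat_stalk_of_isPullback hc x' ((FibFlat.sm_flat_iff f (g' x') (f (g' x')) rfl).1 h.1)),
    (gor_fibre_iff hc x' hN).2 h.2⟩

theorem of_base_change (hc : IsPullback g' f' f g) [LocallyOfFiniteType g] (x' : X')
    (hN : IsLocallyNoetherian (f.fiber (g (f' x'))))
    (hflat : (f.stalkMap (g' x')).hom.Flat) (h : Dual3.IsGorensteinAt f' x') :
    Dual3.IsGorensteinAt f (g' x') := by
  rw [gorAt_iff_sm f' x' (f' x') rfl] at h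
  rw [gorAt_iff_sm f (g' x') (f (g' x')) rfl]
  exact ⟨(FibFlat.sm_flat_iff f (g' x') (f (g' x')) rfl).2 hflat, (gor_fibre_iff hc x' hN).1 h.2⟩

theorem of_flat_base_change (hc : IsPullback g' f' f g) [LocallyOfFiniteType g] (x' : X')
    (hN : IsLocallyNoetherian (f.fiber (g (f' x'))))
    (hflat : (g.stalkMap (f' x')).hom.Flat) (h : Dual3.IsGorensteinAt f' x') :
    Dual3.IsGorensteinAt f (g' x') := by
  rw [gorAt_iff_sm f' x' (f' x') rfl] at h
  rw [gorAt_iff_sm f (g' x') (f (g' x')) rfl]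
  refine ⟨?_, (gor_fibre_iff hc x' hN).1 h.2⟩
  have hg' : (g'.stalkMap x').hom.Flat := Triage.CMBC.flat_stalk_of_isPullback hc.flip x' hflat
  have hy : (g' ≫ f) x' = f (g' x') := Scheme.Hom.comp_apply g' f x'
  have h1 : (FibFlat.sm (g' ≫ f) x' (f (g' x')) hy).Flat := by
    rw [FibFlat.sm_congr hc.w x' (f (g' x')) hy, FibFlat.sm_flat_iff,
      Scheme.Hom.stalkMap_comp, CommRingCat.hom_comp]
    exact RingHom.Flat.comp hflat ((FibFlat.sm_flat_iff f' x' (f' x') rfl).1 h.1)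
  rw [FibFlat.sm_comp g' f x' (g' x') (f (g' x')) rfl rfl] at h1
  exact Triage.CMMor.flat_of_comp _ _ ((FibFlat.sm_flat_iff g' x' (g' x') rfl).2 hg') h1

theorem of_flat_noetherian (f : X ⟶ Y) [Flat f] [IsLocallyNoetherian Y] (x : X)
    (h : LocCoh.IsGorensteinLocalRing ↑(X.presheaf.stalk x)) :
    Dual3.IsGorensteinAt f x ∧ LocCoh.IsGorensteinLocalRing ↑(Y.presheaf.stalk (f x)) := by
  haveI := h
  have hf : (f.stalkMap x).hom.Flat := Flat.stalkMap f x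
  letI := (f.stalkMap x).hom.toAlgebra
  haveI : Module.Flat (Y.presheaf.stalk (f x)) (X.presheaf.stalk x) := hf
  haveI : IsLocalHom (algebraMap (Y.presheaf.stalk (f x)) (X.presheaf.stalk x)) :=
    inferInstanceAs (IsLocalHom (f.stalkMap x).hom)
  obtain ⟨hA, hB⟩ := (gor_iff (Y.presheaf.stalk (f x)) (X.presheaf.stalk x)).1 h
  exact ⟨(gorAt_iff f x).2 ⟨hf, hB⟩, hA⟩

end Groth.Agent.GorFib
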