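import Groth.Agent.GorFib.Etale
import Groth.Agent.LC.GorLCI
import Groth.Prelude.Def_Dual3
import Mathlib.AlgebraicGeometry.Morphisms.UniversallyOpen

/-!
# Gorenstein morphisms on affine charts
-/

set_option autoImplicit false
set_option backward.isDefEq.respectTransparency false
set_option backward.isDefEq.respectTransparency.types false
set_option maxHeartbeats 800000
universe u

open AlgebraicGeometry CategoryTheory IsLocalRing

namespace Groth.Agent.GorFib

open Groth.Agent

variable {X Y : Scheme.{u}}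

/-- A fibre of a morphism which is locally of finite type is locally Noetherian. -/
lemma isLocallyNoetherian_fiber (f : X ⟶ Y) [LocallyOfFiniteType f] (y : Y) :
    IsLocallyNoetherian (f.fiber y) :=
  LocallyOfFiniteType.isLocallyNoetherian (f.fiberToSpecResidueField y)

/-- Gorenstein at a point of an affine morphism, in terms of rings. -/
lemma gorAt_Spec_iff {A B : Type u} [CommRing A] [CommRing B] [Algebra A B] (q : PrimeSpectrum B) :
    Dual3.IsGorensteinAt (Spec.map (CommRingCat.ofHom (algebraMap A B))) q ↔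
      ((Spec.map (CommRingCat.ofHom (algebraMap A B))).stalkMap q).hom.Flat ∧
        LocCoh.IsGorensteinLocalRing (Localization.AtPrime q.asIdeal ⧸
          (q.asIdeal.comap (algebraMap A B)).map (algebraMap A (Localization.AtPrime q.asIdeal))) := by
  rw [gorAt_iff]
  refine and_congr_right fun _ => gor_congr ?_
  let φ := CommRingCat.ofHom (algebraMap A B)
  let p := q.asIdeal.comap (algebraMap A B)
  let e : ((Spec (CommRingCat.of B)).presheaf.stalk q) ≃+* Localization.AtPrime q.asIdeal :=
    (Spec.stalkIso (CommRingCat.of B) q).commRingCatIsoToRingEquiv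
  let ψ : Localization.AtPrime p →+* Localization.AtPrime q.asIdeal :=
    Localization.localRingHom p q.asIdeal (algebraMap A B) rfl
  let e' : ((Spec (CommRingCat.of A)).presheaf.stalk ((Spec.map φ) q)) ≃+* Localization.AtPrime p :=
    (Spec.stalkIso (CommRingCat.of A) (q.comap (algebraMap A B))).commRingCatIsoToRingEquiv
  have hcomp : e.toRingHom.comp ((Spec.map φ).stalkMap q).hom = ψ.comp e'.toRingHom := by
    ext x
    show (Spec.stalkIso (CommRingCat.of B) q).hom.hom (((Spec.map φ).stalkMap q).hom x) = _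
    rw [← Scheme.localRingHom_comp_stalkIso φ q]
    simp only [CommRingCat.hom_comp, RingHom.comp_apply, CommRingCat.hom_ofHom]
    exact Iso.inv_hom_id_apply (Spec.stalkIso (CommRingCat.of B) q) _
  refine Ideal.quotientEquiv _ _ e ?_
  rw [show (e : _ →+* _) = e.toRingHom from rfl, Ideal.map_map, hcomp, ← Ideal.map_map,
    show (maximalIdeal _).map e'.toRingHom = maximalIdeal (Localization.AtPrime p) from
      map_maximalIdeal_of_surjective _ e'.surjective,
    ← Localization.AtPrime.map_eq_maximalIdeal (I := p), Ideal.map_map,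
    show ψ.comp (algebraMap A (Localization.AtPrime p)) = algebraMap A (Localization.AtPrime q.asIdeal) from
      RingHom.ext fun x => (Localization.localRingHom_to_map _ _ _ rfl x).trans
        (IsScalarTower.algebraMap_apply A B (Localization.AtPrime q.asIdeal) x).symm]

/-- A chart of `f`. -/
lemma gorAt_chart_iff (f : X ⟶ Y) [LocallyOfFiniteType f] {A B : Type u} [CommRing A] [CommRing B]
    [Algebra A B] (j : Spec (CommRingCat.of B) ⟶ X) [IsOpenImmersion j]
    (a : Spec (CommRingCat.of A) ⟶ Y) [IsOpenImmersion a]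
    (h : Spec.map (CommRingCat.ofHom (algebraMap A B)) ≫ a = j ≫ f) (q : PrimeSpectrum B) :
    Dual3.IsGorensteinAt f (j q) ↔ Dual3.IsGorensteinAt (Spec.map (CommRingCat.ofHom (algebraMap A B))) q := by
  have hN : IsLocallyNoetherian (f.fiber (f (j q))) := isLocallyNoetherian_fiber f _
  have hl := gor_left_iff j f q hN
  let k := Spec.map (CommRingCat.ofHom (algebraMap A B))
  have hk : k ≫ a = j ≫ f := h
  haveI : LocallyOfFiniteType (k ≫ a) := by rw [hk]; infer_instance
  have hN' : IsLocallyNoetherian ((k ≫ a).fiber (a (k q))) := isLocallyNoetherian_fiber _ _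
  have hr := gor_right_iff k a q hN'
  have e : Dual3.IsGorensteinAt (k ≫ a) q ↔ Dual3.IsGorensteinAt (j ≫ f) q := by rw [hk]
  exact hl.symm.trans (e.symm.trans hr)

lemma flat_of_gorensteinMor (f : X ⟶ Y) (hf : Dual3.IsGorensteinMor f) : Flat f :=
  (Flat.iff_flat_stalkMap _).2 fun x => (hf x).1

lemma flat_algebraMap_of_chart (f : X ⟶ Y) [Flat f] {A B : Type u} [CommRing A] [CommRing B]
    [Algebra A B] (j : Spec (CommRingCat.of B) ⟶ X) [IsOpenImmersion j]
    (a : Spec (CommRingCat.of A) ⟶ Y) [IsOpenImmersion a]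
    (h : Spec.map (CommRingCat.ofHom (algebraMap A B)) ≫ a = j ≫ f) : Module.Flat A B := by
  have h1 : Flat (Spec.map (CommRingCat.ofHom (algebraMap A B))) := by
    refine (Flat.iff_flat_stalkMap _).2 fun q => (flat_right_iff _ a q).1 ?_
    have : Flat (Spec.map (CommRingCat.ofHom (algebraMap A B)) ≫ a) := by rw [h]; infer_instance
    exact Flat.stalkMap _ q
  exact RingHom.flat_algebraMap_iff.1 ((Flat.SpecMap_iff).1 h1)

lemma finiteType_of_chart (f : X ⟶ Y) [LocallyOfFiniteType f] {A B : Type u} [CommRing A] [CommRing B]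
    [Algebra A B] (j : Spec (CommRingCat.of B) ⟶ X) [IsOpenImmersion j]
    (a : Spec (CommRingCat.of A) ⟶ Y)
    (h : Spec.map (CommRingCat.ofHom (algebraMap A B)) ≫ a = j ≫ f) : Algebra.FiniteType A B := by
  haveI : LocallyOfFiniteType (Spec.map (CommRingCat.ofHom (algebraMap A B)) ≫ a) := by rw [h]; infer_instance
  haveI := locallyOfFiniteType_of_comp (Spec.map (CommRingCat.ofHom (algebraMap A B))) a
  have h2 : (CommRingCat.ofHom (algebraMap A B)).hom.FiniteType :=
    (HasRingHomProperty.Spec_iff (P := @LocallyOfFiniteType)).1 inferInstance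
  exact RingHom.finiteType_algebraMap.1 h2

/-- Affine charts of `f` over a given affine chart of the target. -/
lemma exists_chart (f : X ⟶ Y) {A : Type u} [CommRing A] (a : Spec (CommRingCat.of A) ⟶ Y)
    [IsOpenImmersion a] (x : X) (hx : f x ∈ Set.range a) :
    ∃ (B : Type u) (_ : CommRing B) (_ : Algebra A B) (j : Spec (CommRingCat.of B) ⟶ X) (_ : IsOpenImmersion j),
      x ∈ Set.range j ∧ Spec.map (CommRingCat.ofHom (algebraMap A B)) ≫ a = j ≫ f := by
  obtain ⟨_, ⟨U, hU, rfl⟩, hxU, hsub⟩ := X.isBasis_affineOpens.exists_subset_of_mem_open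
    (show x ∈ (f ⁻¹ᵁ a.opensRange : Set X) from hx) (f ⁻¹ᵁ a.opensRange).isOpen
  let j : Spec (CommRingCat.of Γ(X, U)) ⟶ X := IsAffineOpen.fromSpec hU
  have hr : Set.range (j ≫ f) ⊆ Set.range a := by
    rintro _ ⟨z, rfl⟩
    exact hsub (by rw [← IsAffineOpen.range_fromSpec hU]; exact ⟨z, rfl⟩)
  let k := IsOpenImmersion.lift a (j ≫ f) hr
  letI : Algebra A Γ(X, U) := (Spec.preimage k).hom.toAlgebra
  refine ⟨Γ(X, U), inferInstance, this, j, inferInstanceAs (IsOpenImmersion (IsAffineOpen.fromSpec hU)),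
    by rw [show Set.range j = _ from IsAffineOpen.range_fromSpec hU]; exact hxU, ?_⟩
  rw [show CommRingCat.ofHom (algebraMap A Γ(X, U)) = Spec.preimage k from rfl, Spec.map_preimage,
    IsOpenImmersion.lift_fac]

/-- Flat local complete intersection morphisms are Gorenstein. -/
theorem gorensteinMor_of_lci [IsLocallyNoetherian Y] (f : X ⟶ Y) [Flat f] (hf : Dual3.IsLCIMor f) :
    LocallyOfFiniteType f ∧ Dual3.IsGorensteinMor f := by
  have hft : LocallyOfFiniteType f := (HasRingHomProperty.iff_exists_appLE (P := @LocallyOfFiniteType) (f := f)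
      (RingHom.finiteType_stableUnderComposition.stableUnderCompositionWithLocalizationAway
        RingHom.finiteType_holdsForLocalizationAway).left).2
    fun x => by
      obtain ⟨U, V, e, hxU, h⟩ := hf x
      exact ⟨V, U, hxU, e, h.1⟩
  refine ⟨hft, fun x => ?_⟩
  obtain ⟨U, V, e, hxU, hlci⟩ := hf x
  letI := (f.appLE V.1 U.1 e).hom.toAlgebra
  obtain ⟨q, rfl⟩ : x ∈ Set.range U.2.fromSpec := by rw [U.2.range_fromSpec]; exact hxU
  haveI hoj : IsOpenImmersion U.2.fromSpec := inferInstance
  haveI hoa : IsOpenImmersion V.2.fromSpec := inferInstance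
  have h : Spec.map (CommRingCat.ofHom (algebraMap Γ(Y, V.1) Γ(X, U.1))) ≫ V.2.fromSpec =
      U.2.fromSpec ≫ f := V.2.SpecMap_appLE_fromSpec f U.2 e
  haveI := flat_algebraMap_of_chart f U.2.fromSpec V.2.fromSpec h
  haveI : IsNoetherianRing Γ(Y, V.1) := IsLocallyNoetherian.component_noetherian V
  haveI := hlci.1
  haveI : IsNoetherianRing Γ(X, U.1) := Algebra.FiniteType.isNoetherianRing Γ(Y, V.1) Γ(X, U.1)
  refine (gorAt_chart_iff f U.2.fromSpec V.2.fromSpec h q).2 ((gorAt_Spec_iff q).2 ⟨?_, ?_⟩)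
  · haveI : Flat (Spec.map (CommRingCat.ofHom (algebraMap Γ(Y, V.1) Γ(X, U.1)))) :=
      Flat.SpecMap_iff.2 (RingHom.flat_algebraMap_iff.2 inferInstance)
    exact Flat.stalkMap _ q
  · exact LC.fibLoc_of_fiber q.asIdeal fun p _ =>
      LC.gorensteinRing_of_ringEquiv (Algebra.TensorProduct.comm _ _ _).toRingEquiv
        (LC.gorensteinRing_fibre_of_isLCI Γ(Y, V.1) Γ(X, U.1) hlci p)

/-- Local complete intersections over a Gorenstein scheme are Gorenstein. -/
theorem isGorenstein_of_lci (f : X ⟶ Y) (hf : Dual3.IsLCIMor f) (hY : Dual3.IsGorenstein Y) :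
    Dual3.IsGorenstein X := by
  haveI := hY.1
  haveI hft : LocallyOfFiniteType f := (HasRingHomProperty.iff_exists_appLE (P := @LocallyOfFiniteType) (f := f)
      (RingHom.finiteType_stableUnderComposition.stableUnderCompositionWithLocalizationAway
        RingHom.finiteType_holdsForLocalizationAway).left).2
    fun x => by
      obtain ⟨U, V, e, hxU, h⟩ := hf x
      exact ⟨V, U, hxU, e, h.1⟩
  refine ⟨LocallyOfFiniteType.isLocallyNoetherian f, fun x => ?_⟩
  obtain ⟨U, V, e, hxU, hlci⟩ := hf x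
  letI := (f.appLE V.1 U.1 e).hom.toAlgebra
  obtain ⟨q, rfl⟩ : x ∈ Set.range U.2.fromSpec := by rw [U.2.range_fromSpec]; exact hxU
  haveI : IsNoetherianRing Γ(Y, V.1) := IsLocallyNoetherian.component_noetherian V
  have hA : LocCoh.IsGorensteinRing Γ(Y, V.1) := LC.gorensteinRing_of_atPrime fun p _ => by
    refine gor_of_equiv ?_ (hY.2 (V.2.fromSpec ⟨p, ‹_›⟩))
    exact (asIso (V.2.fromSpec.stalkMap ⟨p, ‹_›⟩)).commRingCatIsoToRingEquiv.trans
      (Spec.stalkIso Γ(Y, V.1) ⟨p, ‹_›⟩).commRingCatIsoToRingEquiv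
  haveI := LC.gorensteinRing_of_isLCI Γ(Y, V.1) Γ(X, U.1) hA hlci
  refine gor_of_equiv ?_ (LocCoh.IsGorensteinRing.isGorensteinLocalRing_localization (A := Γ(X, U.1)) q.asIdeal)
  exact ((asIso (U.2.fromSpec.stalkMap q)).commRingCatIsoToRingEquiv.trans
    (Spec.stalkIso Γ(X, U.1) q).commRingCatIsoToRingEquiv).symm

end Groth.Agent.GorFib
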