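import Groth.Agent.GorFib.OpenRing
import Groth.Agent.GorFib.Charts
import Groth.Agent.GeomLoci.SectNhdFlat
import Groth.Agent.S3626
import Groth.Agent.AlgSpPts.Sep

/-!
# Openness of the Gorenstein locus of a morphism
-/

set_option autoImplicit false
set_option linter.style.haveILetI false
set_option backward.isDefEq.respectTransparency false
set_option backward.isDefEq.respectTransparency.types false
set_option maxHeartbeats 800000

universe u

open AlgebraicGeometry CategoryTheory CategoryTheory.Limits IsLocalRing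

namespace Groth.Agent.GorFib

open Groth.Agent

variable {X S : Scheme.{u}}

/-- Gorenstein at a point, in a chart. -/
theorem gorAt_iff_fibLoc (f : X ⟶ S) [LocallyOfFiniteType f] {A B : Type u} [CommRing A] [CommRing B]
    [Algebra A B] [Module.Flat A B] (j : Spec (CommRingCat.of B) ⟶ X) [IsOpenImmersion j]
    (a : Spec (CommRingCat.of A) ⟶ S) [IsOpenImmersion a]
    (h : Spec.map (CommRingCat.ofHom (algebraMap A B)) ≫ a = j ≫ f) (q : PrimeSpectrum B) :
    Dual3.IsGorensteinAt f (j q) ↔ LocCoh.IsGorensteinLocalRing (EGA4.FibLocRing A B q.asIdeal) := by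
  haveI hfl : Flat (Spec.map (CommRingCat.ofHom (algebraMap A B))) :=
    Flat.SpecMap_iff.2 (RingHom.flat_algebraMap_iff.2 inferInstance)
  have h1 := gorAt_chart_iff f j a h q
  have h2 := gorAt_Spec_iff (A := A) (B := B) q
  have h4 := Flat.iff_flat_stalkMap (Spec.map (CommRingCat.ofHom (algebraMap A B)))
  refine h1.trans (h2.trans ?_)
  rw [and_iff_right (h4.1 hfl q)]

/-- The Gorenstein locus over a Noetherian base. -/
theorem isOpen_gorenstein_noetherian (f : X ⟶ S) [IsLocallyNoetherian S] [Flat f] [LocallyOfFiniteType f] :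
    IsOpen {x : X | Dual3.IsGorensteinAt f x} := by
  refine isOpen_iff_forall_mem_open.2 fun x hx => ?_
  obtain ⟨_, ⟨V, hV, rfl⟩, hxV, -⟩ := S.isBasis_affineOpens.exists_subset_of_mem_open
    (Set.mem_univ (f x)) isOpen_univ
  let a : Spec (CommRingCat.of Γ(S, V)) ⟶ S := IsAffineOpen.fromSpec hV
  haveI : IsOpenImmersion a := inferInstanceAs (IsOpenImmersion (IsAffineOpen.fromSpec hV))
  haveI : IsNoetherianRing Γ(S, V) := IsLocallyNoetherian.component_noetherian ⟨V, hV⟩
  obtain ⟨B, hB, hAlg, j, hj, ⟨q, rfl⟩, h⟩ := exists_chart f a x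
    (by rw [show Set.range a = _ from IsAffineOpen.range_fromSpec hV]; exact hxV)
  haveI := flat_algebraMap_of_chart f j a h
  haveI := finiteType_of_chart f j a h
  have key := gorAt_iff_fibLoc f j a h
  refine ⟨j '' {q | LocCoh.IsGorensteinLocalRing (EGA4.FibLocRing Γ(S, V) B q.asIdeal)}, ?_,
    j.isOpenEmbedding.isOpenMap _ isOpen_gorenstein_ring, q, (key q).1 hx, rfl⟩
  rintro _ ⟨q', hq', rfl⟩
  exact (key q').2 hq'

/-- The Gorenstein locus of a flat morphism of finite presentation is open. -/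
theorem isOpen_gorenstein (f : X ⟶ S) [Flat f] [LocallyOfFinitePresentation f] :
    IsOpen {x : X | Dual3.IsGorensteinAt f x} := by
  refine isOpen_iff_forall_mem_open.2 fun x hx => ?_
  obtain ⟨_, ⟨V, hV, rfl⟩, hxV, -⟩ := S.isBasis_affineOpens.exists_subset_of_mem_open
    (Set.mem_univ (f x)) isOpen_univ
  let a : Spec (CommRingCat.of Γ(S, V)) ⟶ S := IsAffineOpen.fromSpec hV
  haveI : IsOpenImmersion a := inferInstanceAs (IsOpenImmersion (IsAffineOpen.fromSpec hV))
  obtain ⟨B, hB, hAlg, j, hj, ⟨q, rfl⟩, h⟩ := exists_chart f a x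
    (by rw [show Set.range a = _ from IsAffineOpen.range_fromSpec hV]; exact hxV)
  let k := Spec.map (CommRingCat.ofHom (algebraMap Γ(S, V) B))
  haveI : Module.Flat Γ(S, V) B := flat_algebraMap_of_chart f j a h
  haveI : Flat k := Flat.SpecMap_iff.2 (RingHom.flat_algebraMap_iff.2 inferInstance)
  haveI : LocallyOfFinitePresentation k := by
    haveI : LocallyOfFinitePresentation (k ≫ a) := by rw [show k ≫ a = j ≫ f from h]; infer_instance
    exact AlgSpPts.locallyOfFinitePresentation_of_comp k a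
  obtain ⟨S₀, X₀, f₀, g', π, hN, hfl, hfp, hqc, hpb⟩ := GeomLoci.exists_flat_model k
  haveI := hN; haveI := hfl; haveI := hfp
  have key : ∀ z, Dual3.IsGorensteinAt k z ↔ Dual3.IsGorensteinAt f₀ (g' z) := fun z => by
    rw [gorAt_iff_sm k z (k z) rfl, gorAt_iff_sm f₀ (g' z) (f₀ (g' z)) rfl]
    refine and_congr ⟨fun _ => (FibFlat.sm_flat_iff f₀ (g' z) _ rfl).2 (Flat.stalkMap f₀ _),
      fun _ => (FibFlat.sm_flat_iff k z _ rfl).2 (Flat.stalkMap k _)⟩ (S3626.gor_fibre_iff' hpb z)
  refine ⟨j '' (g' ⁻¹' {y | Dual3.IsGorensteinAt f₀ y}), ?_,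
    j.isOpenEmbedding.isOpenMap _ ((isOpen_gorenstein_noetherian f₀).preimage g'.continuous), q,
    (key q).1 ((gorAt_chart_iff f j a h q).1 hx), rfl⟩
  rintro _ ⟨q', hq', rfl⟩
  exact (gorAt_chart_iff f j a h q').2 ((key q').2 hq')

/-- The points of the base with Gorenstein fibres, for a proper flat morphism. -/
theorem isOpen_gorenstein_fibre (f : X ⟶ S) [IsProper f] [Flat f] [LocallyOfFinitePresentation f] :
    IsOpen {y : S | ∀ x : ↥(f.fiber y), LocCoh.IsGorensteinLocalRing ((f.fiber y).presheaf.stalk x)} := by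
  have heq : {y : S | ∀ x : ↥(f.fiber y), LocCoh.IsGorensteinLocalRing ((f.fiber y).presheaf.stalk x)} =
      (f '' {x : X | Dual3.IsGorensteinAt f x}ᶜ)ᶜ := by
    ext y
    refine ⟨fun hy => ?_, fun hy z => ?_⟩
    · rintro ⟨x, hx, rfl⟩
      exact hx ⟨Flat.stalkMap f x, hy (f.asFiber x)⟩
    · have hz : f (f.fiberι y z) = y := by
        have := Set.mem_range_self (f := f.fiberι y) z
        rw [Scheme.Hom.range_fiberι] at this
        exact this
      have h := (not_not.1 fun hn => hy ⟨_, hn, hz⟩ : Dual3.IsGorensteinAt f (f.fiberι y z))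
      rw [gorAt_iff_sm f (f.fiberι y z) y hz] at h
      exact gor_of_equiv (Triage.CMMor.exists_equiv_fibre_stalk_aux f (f.fiberι y z) y hz z rfl).some h.2
  rw [heq]
  exact (f.isClosedMap _ (isOpen_gorenstein f).isClosed_compl).isOpen_compl

end Groth.Agent.GorFib
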