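import Groth.Agent.S1786
import Groth.Agent.FlatLoc6.FiberRing
import Groth.Agent.GorFib.Basic

/-!
# The Gorenstein locus of a flat algebra of finite type over a Noetherian ring is open
-/

set_option autoImplicit false
set_option linter.style.haveILetI false
set_option backward.isDefEq.respectTransparency false
set_option maxHeartbeats 1000000

universe u

open CategoryTheory CategoryTheory.Limits
open scoped TensorProduct

attribute [local instance] HasDerivedCategory.standard

namespace Groth.Agent.GorFib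

open Groth.Agent Groth.Agent.KFlatLib

variable {R A : Type u} [CommRing R] [CommRing A] [Algebra R A]

/-- Local rings of fibres, as localisations of the fibre ring. -/
lemma gor_fibLoc_congr {q q' : Ideal A} [q.IsPrime] [q'.IsPrime] (h : q = q')
    (H : LocCoh.IsGorensteinLocalRing (EGA4.FibLocRing R A q)) :
    LocCoh.IsGorensteinLocalRing (EGA4.FibLocRing R A q') := by
  subst h; exact H

lemma gor_fiberPrime (p : Ideal R) [p.IsPrime] (P : Ideal (A ⊗[R] p.ResidueField)) [P.IsPrime] :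
    LocCoh.IsGorensteinLocalRing (Localization.AtPrime P) ↔ LocCoh.IsGorensteinLocalRing
      (EGA4.FibLocRing R A (P.comap (Algebra.TensorProduct.includeLeftRingHom : A →+* A ⊗[R] p.ResidueField))) := by
  let c : p.Fiber A ≃+* A ⊗[R] p.ResidueField := (Algebra.TensorProduct.comm R p.ResidueField A).toRingEquiv
  let Q : Ideal (p.Fiber A) := P.comap (c : p.Fiber A →+* A ⊗[R] p.ResidueField)
  haveI : Q.IsPrime := Ideal.IsPrime.comap _
  have hQ : Q.primeCompl.map (c : p.Fiber A →* A ⊗[R] p.ResidueField) = P.primeCompl := by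
    ext x
    refine ⟨?_, fun hx => ⟨c.symm x, fun h => hx (by simpa [Q] using h), c.apply_symm_apply x⟩⟩
    rintro ⟨y, hy, rfl⟩
    exact hy
  let e₁ : Localization.AtPrime Q ≃+* Localization.AtPrime P :=
    IsLocalization.ringEquivOfRingEquiv (M := Q.primeCompl) (T := P.primeCompl) _ _ c hQ
  obtain ⟨e₂⟩ := FlatLoc6.exists_fibLocEquiv p Q
  rw [← gor_congr (R := Localization.AtPrime Q) (S := Localization.AtPrime P) e₁,
    gor_congr (R := Localization.AtPrime Q) e₂]
  have hq : Q.comap Algebra.TensorProduct.includeRight =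
      P.comap (Algebra.TensorProduct.includeLeftRingHom : A →+* A ⊗[R] p.ResidueField) := by
    ext x
    show c ((1 : p.ResidueField) ⊗ₜ[R] x) ∈ P ↔ x ⊗ₜ[R] (1 : p.ResidueField) ∈ P
    exact Iff.of_eq (congrArg (· ∈ P) (Algebra.TensorProduct.comm_tmul ..))
  exact ⟨gor_fibLoc_congr hq, gor_fibLoc_congr hq.symm⟩

/-- The Gorenstein locus of a flat algebra of finite type over a Noetherian ring is open. -/
theorem isOpen_gorenstein_ring [IsNoetherianRing R] [Module.Flat R A] [Algebra.FiniteType R A] :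
    IsOpen {q : PrimeSpectrum A | LocCoh.IsGorensteinLocalRing (EGA4.FibLocRing R A q.asIdeal)} := by
  haveI : IsNoetherianRing A := Algebra.FiniteType.isNoetherianRing R A
  obtain ⟨n, ψ, hψ⟩ := Algebra.FiniteType.iff_quotient_mvPolynomial''.mp (inferInstance : Algebra.FiniteType R A)
  obtain ⟨Rψ, ⟨adj⟩⟩ := exists_shriek ψ.toRingHom
  have hR : ψ.toRingHom.comp MvPolynomial.C = algebraMap R A := RingHom.ext fun r => ψ.commutes r
  obtain ⟨⟨a, b, hab⟩, hfin⟩ := bounded_finite_shriek_unit ψ.toRingHom hψ hR adj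
  let W : Dual.D A := (Rψ.obj (DTen.unit _))⟦(n : ℤ)⟧
  refine isOpen_iff_forall_mem_open.2 fun q hq => ?_
  let p : PrimeSpectrum R := PrimeSpectrum.comap (algebraMap R A) q
  let k := p.asIdeal.ResidueField
  let K := q.asIdeal.ResidueField
  let ρ : A ⊗[R] k →ₐ[R] K := Algebra.TensorProduct.lift (IsScalarTower.toAlgHom R A K)
    (Ideal.ResidueField.mapₐ p.asIdeal q.asIdeal (Algebra.ofId R A) rfl) (fun _ _ => Commute.all _ _)
  let P : Ideal (A ⊗[R] k) := RingHom.ker ρ.toRingHom
  haveI : P.IsPrime := RingHom.ker_isPrime _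
  have hPq : P.comap (Algebra.TensorProduct.includeLeftRingHom : A →+* A ⊗[R] k) = q.asIdeal := by
    ext x
    show ρ (x ⊗ₜ[R] (1 : k)) = 0 ↔ _
    simp only [ρ, Algebra.TensorProduct.lift_tmul, map_one, mul_one]
    exact Ideal.algebraMap_residueField_eq_zero
  let G := Localization.AtPrime P
  haveI hG : LocCoh.IsGorensteinLocalRing G :=
    (gor_fiberPrime p.asIdeal P).2 (gor_fibLoc_congr hPq.symm hq)
  let ρ' : G →+* K := IsLocalization.lift (M := P.primeCompl) (g := ρ.toRingHom) fun y =>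
    isUnit_iff_ne_zero.2 fun h => y.2 h
  let χ : A →+* G := (algebraMap (A ⊗[R] k) G).comp Algebra.TensorProduct.includeLeftRingHom
  haveI := hasLBase χ
  haveI := hasLBase ρ'
  haveI := hasLBase (algebraMap A K)
  obtain ⟨_, hd⟩ := S1786.isDualizing_fibre_local n ψ.toRingHom hψ hR adj k P χ rfl
  haveI := hasLTen G
  haveI := hasRHom (A := G)
  obtain ⟨m, ⟨v⟩⟩ := exists_iso_shift_of_isDualizing
    ((Groth.Agent.LC.gorenstein_iff_isDualizing G).1 inferInstance) hd
  let B := Localization.AtPrime q.asIdeal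
  haveI := hasLBase (algebraMap A B)
  haveI := hasLBase (IsLocalRing.residue B)
  obtain ⟨l₁⟩ := nonempty_LBase_comp χ ρ' (algebraMap A K) (RingHom.ext fun x => by
    simp only [χ, ρ', RingHom.comp_apply]
    rw [IsLocalization.lift_eq]
    change ρ (x ⊗ₜ[R] (1 : k)) = _
    simp only [ρ, Algebra.TensorProduct.lift_tmul, map_one, mul_one]
    rfl)
  obtain ⟨l₂⟩ := nonempty_LBase_comp (algebraMap A B) (IsLocalRing.residue B) (algebraMap A K)
    (IsScalarTower.algebraMap_eq A B K).symm
  obtain ⟨t⟩ := S1786.nonempty_LBase_inD_shift ρ' m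
  let eK : (DTen.LBase (IsLocalRing.residue B)).obj ((DTen.LBase (algebraMap A B)).obj W) ≅
      (Dual.inD K K)⟦m⟧ := l₂.app W ≪≫ (l₁.app W).symm ≪≫ (DTen.LBase ρ').mapIso v ≪≫ t
  haveI : Module.Flat A B := IsLocalization.flat _ q.asIdeal.primeCompl
  have eH : ∀ i, Nonempty (Dual.HD B ((DTen.LBase (algebraMap A B)).obj W) i ≃ₗ[B]
      LocalizedModule q.asIdeal.primeCompl (Dual.HD A W i)) := fun i => by
    obtain ⟨ee⟩ := exists_hdLBaseLEquiv (B := B) W i
    exact ⟨ee.trans (IsLocalizedModule.isBaseChange q.asIdeal.primeCompl B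
      (LocalizedModule.mkLinearMap q.asIdeal.primeCompl (Dual.HD A W i))).equiv⟩
  haveI : ((DTen.LBase (algebraMap A B)).obj W).IsLE b := (DerivedCategory.isLE_iff _ _).2 fun i hi => by
    obtain ⟨ee⟩ := exists_hdLBaseLEquiv (B := B) W i
    haveI : Subsingleton (Dual.HD A W i) := hab i (Or.inr hi)
    exact @ModuleCat.isZero_of_subsingleton _ _ _ ee.injective.subsingleton
  obtain ⟨h0, ⟨g⟩⟩ := S1786.exists_hd_of_residue_iso ((DTen.LBase (algebraMap A B)).obj W) b
    (fun i => finite_hd_LBase (B := B) W i (hfin i)) m eK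
  obtain ⟨es⟩ := eH (-m)
  obtain ⟨x, hx⟩ := S1786.exists_bijective_of_stalk q.asIdeal _ (g.symm.trans es)
  obtain ⟨f, hf, hf'⟩ := S1786.exists_spread W a b (-m) hab hfin q.asIdeal (fun i hi => by
    obtain ⟨ee⟩ := eH i
    haveI := h0 i hi
    exact ee.symm.toEquiv.subsingleton) x hx
  haveI := hasLBase (algebraMap A (Localization.Away f))
  obtain ⟨t'⟩ := hf'
  refine ⟨PrimeSpectrum.basicOpen f, fun q' hq' => ?_, (PrimeSpectrum.basicOpen f).isOpen, hf⟩
  let p' : PrimeSpectrum R := PrimeSpectrum.comap (algebraMap R A) q'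
  obtain ⟨Q', hQ'⟩ := FlatLoc6.exists_fiber_prime p'.asIdeal q'.asIdeal rfl
  let P' : Ideal (A ⊗[R] p'.asIdeal.ResidueField) := Q'.asIdeal.comap
    (Algebra.TensorProduct.comm R A p'.asIdeal.ResidueField).toRingEquiv.toRingHom
  haveI : P'.IsPrime := Ideal.IsPrime.comap _
  have hP' : P'.comap (Algebra.TensorProduct.includeLeftRingHom : A →+* A ⊗[R] p'.asIdeal.ResidueField) =
      q'.asIdeal := by
    rw [← hQ']
    ext y
    show (Algebra.TensorProduct.comm R A p'.asIdeal.ResidueField) (y ⊗ₜ[R] 1) ∈ Q'.asIdeal ↔ _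
    rw [Algebra.TensorProduct.comm_tmul]
    rfl
  refine gor_fibLoc_congr hP' ((gor_fiberPrime p'.asIdeal P').1 ?_)
  let G' := Localization.AtPrime P'
  let χ' : A →+* G' := (algebraMap (A ⊗[R] p'.asIdeal.ResidueField) G').comp Algebra.TensorProduct.includeLeftRingHom
  have hfP : (Algebra.TensorProduct.includeLeftRingHom : A →+* A ⊗[R] p'.asIdeal.ResidueField) f ∈ P'.primeCompl :=
    fun h => hq' (hP' ▸ h)
  let τ : Localization.Away f →+* G' := IsLocalization.Away.lift f (g := χ')
    (IsLocalization.map_units G' (⟨_, hfP⟩ : P'.primeCompl))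
  haveI := hasLBase χ'
  haveI := hasLBase τ
  obtain ⟨_, hd'⟩ := S1786.isDualizing_fibre_local n ψ.toRingHom hψ hR adj _ P' χ' rfl
  obtain ⟨l⟩ := nonempty_LBase_comp (algebraMap A (Localization.Away f)) τ χ'
    (IsLocalization.Away.lift_comp f _)
  obtain ⟨t⟩ := S1786.nonempty_LBase_inD_shift τ (- -m)
  have hG' := isDualizing_of_iso ((l.app W).symm ≪≫ (DTen.LBase τ).mapIso t' ≪≫ t) hd'
  exact (Groth.Agent.LC.gorenstein_iff_isDualizing G').2 (isDualizing_of_iso
    ((shiftFunctorCompIsoId (Dual.D G') (- -m) (-m) (by omega)).app _) (isDualizing_shift hG' (-m)))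

end Groth.Agent.GorFib
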